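import Mathlib

/-!
# S5210, `q = 2`, piece (2U): the finite computation on bit masks (helper568)

`V` is the regular module for `U ≅ C₂ × C₂`; its elements are written as masks on the basis `w₀, w₁ = u₁ w₀,
w₂ = u₂ w₀, w₃ = u₁ u₂ w₀`.
-/

set_option autoImplicit false

set_option synthInstance.maxHeartbeats 400000
set_option synthInstance.maxSize 2000

namespace Cfsg.Agent.H568.P4

/-- masks -/
abbrev Mk := Bool × Bool × Bool × Bool

def z0 : Mk := (false, false, false, false)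
def e0 : Mk := (true, false, false, false)
def e1 : Mk := (false, true, false, false)
def e2 : Mk := (false, false, true, false)
def e3 : Mk := (false, false, false, true)

def xa (x y : Mk) : Mk := (xor x.1 y.1, xor x.2.1 y.2.1, xor x.2.2.1 y.2.2.1, xor x.2.2.2 y.2.2.2)

/-- the action of `u₁` -/
def s1 (x : Mk) : Mk := (x.2.1, x.1, x.2.2.2, x.2.2.1)

/-- the action of `u₂` -/
def s2 (x : Mk) : Mk := (x.2.2.1, x.2.2.2, x.1, x.2.1)

def par (x : Mk) : Bool := xor x.1 (xor x.2.1 (xor x.2.2.1 x.2.2.2))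

/-- multiplication by `w₁ + w₂ + w₃` -/
def th (x : Mk) : Mk := bif par x then (!x.1, !x.2.1, !x.2.2.1, !x.2.2.2) else x

/-- the linear map with given images of the basis -/
def app (c0 c1 c2 c3 x : Mk) : Mk :=
  xa (bif x.1 then c0 else z0) (xa (bif x.2.1 then c1 else z0) (xa (bif x.2.2.1 then c2 else z0)
    (bif x.2.2.2 then c3 else z0)))

/-- commutes with `u₁` -/
def ap1 (m p x : Mk) : Mk := app m (s1 m) p (s1 p) x

/-- commutes with `u₂` -/
def ap2 (n q x : Mk) : Mk := app n q (s2 n) (s2 q) x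

/-- the standard elements -/
def Y0 (x : Mk) : Mk := ap1 (false, false, false, true) (false, true, true, false) x

def W0 (x : Mk) : Mk := ap2 (false, false, false, true) (false, true, true, false) x

theorem decomp (x : Mk) : x = xa (bif x.1 then e0 else z0) (xa (bif x.2.1 then e1 else z0)
    (xa (bif x.2.2.1 then e2 else z0) (bif x.2.2.2 then e3 else z0))) := by
  obtain ⟨a, b, c, d⟩ := x
  cases a <;> cases b <;> cases c <;> cases d <;> rfl

def lY : List (Mk × Mk) :=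
  [((false, false, false, true), (false, true, true, false)), ((false, false, true, false), (true, false, true, false)),
   ((true, false, false, true), (false, true, false, false)), ((true, false, true, false), (true, false, false, false))]

def lW : List (Mk × Mk) :=
  [((false, false, false, true), (false, true, true, false)), ((false, true, false, false), (true, true, false, false)),
   ((true, false, false, true), (false, false, true, false)), ((true, true, false, false), (true, false, false, false))]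

/-- the elements of odd order commuting with `u₁` and inverted by `u₂` -/
theorem finY : ∀ m p : Mk, (ap1 m p (s2 (ap1 m p e0)) = s2 e0 ∧ ap1 m p (s2 (ap1 m p e2)) = s2 e2) →
    ((ap1 m p)^[9] e0 = e0 ∧ (ap1 m p)^[9] e2 = e2) → (m, p) = (e0, e2) ∨ (m, p) ∈ lY := by
  decide +kernel

theorem finW : ∀ n q : Mk, (ap2 n q (s1 (ap2 n q e0)) = s1 e0 ∧ ap2 n q (s1 (ap2 n q e1)) = s1 e1) →
    ((ap2 n q)^[9] e0 = e0 ∧ (ap2 n q)^[9] e1 = e1) → (n, q) = (e0, e1) ∨ (n, q) ∈ lW := by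
  decide +kernel

/-- commuting elements of `lY` generate the same group -/
theorem finYY : ∀ a ∈ lY, ∀ b ∈ lY, ap1 a.1 a.2 (ap1 b.1 b.2 e0) = ap1 b.1 b.2 (ap1 a.1 a.2 e0) →
    ap1 a.1 a.2 (ap1 b.1 b.2 e2) = ap1 b.1 b.2 (ap1 a.1 a.2 e2) →
    b = a ∨ b = (ap1 a.1 a.2 (ap1 a.1 a.2 e0), ap1 a.1 a.2 (ap1 a.1 a.2 e2)) := by
  decide +kernel

theorem finY3 : ∀ a ∈ lY, ap1 a.1 a.2 (ap1 a.1 a.2 (ap1 a.1 a.2 e0)) = e0 ∧
    ap1 a.1 a.2 (ap1 a.1 a.2 (ap1 a.1 a.2 e2)) = e2 := by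
  decide +kernel

theorem finW3 : ∀ a ∈ lW, ap2 a.1 a.2 (ap2 a.1 a.2 (ap2 a.1 a.2 e0)) = e0 ∧
    ap2 a.1 a.2 (ap2 a.1 a.2 (ap2 a.1 a.2 e1)) = e1 := by
  decide +kernel

/-- the transport map -/
def tr (i j k : Bool) (x : Mk) : Mk :=
  bif k then th (bif j then s2 (bif i then s1 x else x) else (bif i then s1 x else x))
  else (bif j then s2 (bif i then s1 x else x) else (bif i then s1 x else x))

/-- commuting pairs are conjugate to the standard one -/
theorem finTr : ∀ a ∈ lY, ∀ b ∈ lW, (∀ x ∈ [e0, e1, e2, e3], ap1 a.1 a.2 (ap2 b.1 b.2 x) = ap2 b.1 b.2 (ap1 a.1 a.2 x)) →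
    ∃ i j k : Bool, ∀ x : Mk, tr i j k (ap1 a.1 a.2 x) = Y0 (tr i j k x) ∧
      tr i j k (ap2 b.1 b.2 x) = W0 (tr i j k x) := by
  decide +kernel

theorem tr_surj : ∀ (i j k : Bool) (x : Mk), ∃ x', tr i j k x' = x := by
  decide +kernel

theorem ap1_id : ∀ x : Mk, ap1 e0 e2 x = x := by decide +kernel

theorem ap2_id : ∀ x : Mk, ap2 e0 e1 x = x := by decide +kernel

theorem finY3' : ∀ a ∈ lY, ∀ x, ap1 a.1 a.2 (ap1 a.1 a.2 (ap1 a.1 a.2 x)) = x := by decide +kernel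

theorem finYY' : ∀ a ∈ lY, ∀ b ∈ lY, (∀ x, ap1 a.1 a.2 (ap1 b.1 b.2 x) = ap1 b.1 b.2 (ap1 a.1 a.2 x)) →
    (∀ x, ap1 b.1 b.2 x = ap1 a.1 a.2 x) ∨ ∀ x, ap1 b.1 b.2 x = ap1 a.1 a.2 (ap1 a.1 a.2 x) := by
  decide +kernel

theorem Y0_three : ∀ x, Y0 (Y0 (Y0 x)) = x := by decide +kernel

theorem W0_three : ∀ x, W0 (W0 (W0 x)) = x := by decide +kernel

/-- an element commuting with `u₁` and `u₂` has square one -/
theorem finU : ∀ m : Mk, app m (s1 m) (s2 m) (s2 (s1 m)) m = e0 ∨ app m (s1 m) (s2 m) (s2 (s1 m)) m = z0 := by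
  decide +kernel

theorem s1_xa (x y : Mk) : s1 (xa x y) = xa (s1 x) (s1 y) := rfl

theorem s2_xa (x y : Mk) : s2 (xa x y) = xa (s2 x) (s2 y) := rfl

theorem finStd : Y0 e0 ≠ e0 ∧ W0 e0 ≠ e0 ∧ Y0 (Y0 (Y0 e0)) = e0 ∧ Y0 (Y0 (Y0 e1)) = e1 ∧ Y0 (Y0 (Y0 e2)) = e2 ∧
    Y0 (Y0 (Y0 e3)) = e3 ∧ W0 (W0 (W0 e0)) = e0 ∧ W0 (W0 (W0 e1)) = e1 ∧ W0 (W0 (W0 e2)) = e2 ∧
    W0 (W0 (W0 e3)) = e3 := by
  decide +kernel

theorem finNe : (∃ x, W0 x ≠ Y0 x) ∧ (∃ x, W0 x ≠ Y0 (Y0 x)) := by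
  decide +kernel

theorem finCom : ∀ x, Y0 (W0 x) = W0 (Y0 x) := by
  decide +kernel

end Cfsg.Agent.H568.P4
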