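import Cfsg.Agent.H568.P4.TwoModel

/-!
# S5210, `q = 2`, piece (2U): elements of `GL(V)` on masks (helper568)
-/

set_option autoImplicit false

namespace Cfsg.Agent.H568.P4

open Cfsg Cfsg.FusionSystem Cfsg.Agent.H776.P4
open Cfsg.Agent.H756.PU (HypK)

universe u

variable {K : Type u} [Field K] [StarRing K]

/-- `y` acts on `V` as `f` on masks -/
def Acts (ρ ω : K) (y : MulAut (PV K)) (f : Mk → Mk) : Prop := ∀ x, y (vV ρ ω x) = vV ρ ω (f x)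

theorem Acts.mul {ρ ω : K} {y y' : MulAut (PV K)} {f f' : Mk → Mk} (hy : Acts ρ ω y f) (hy' : Acts ρ ω y' f') :
    Acts ρ ω (y * y') (fun x => f (f' x)) := by
  intro x
  rw [MulAut.mul_apply, hy', hy]

theorem Acts.ext (h : Four K) {ρ ω : K} (hρ : ρ ^ 3 = 1) (hω : ω ^ 2 + ω + 1 = 0) {y y' : MulAut (PV K)} {f f' : Mk → Mk}
    (hy : Acts ρ ω y f) (hy' : Acts ρ ω y' f') (hf : ∀ x, f x = f' x) : y = y' := by
  ext1 v
  obtain ⟨x, rfl⟩ := vV_surj h hρ hω v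
  rw [hy, hy', hf]

theorem Acts.one {ρ ω : K} : Acts ρ ω (1 : MulAut (PV K)) (fun x => x) := fun _ => rfl

theorem Acts.eq_of (h : Four K) {ρ ω : K} (hρ : ρ ^ 3 = 1) (hω : ω ^ 2 + ω + 1 = 0) {y : MulAut (PV K)} {f f' : Mk → Mk}
    (hy : Acts ρ ω y f) (hy' : Acts ρ ω y f') (x : Mk) : f x = f' x :=
  vV_inj h hρ hω ((hy x).symm.trans (hy' x))

theorem acts_app (h : Four K) {ρ ω : K} {y : MulAut (PV K)} {c0 c1 c2 c3 : Mk} (h0 : y (vV ρ ω e0) = vV ρ ω c0)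
    (h1 : y (vV ρ ω e1) = vV ρ ω c1) (h2 : y (vV ρ ω e2) = vV ρ ω c2) (h3 : y (vV ρ ω e3) = vV ρ ω c3) :
    Acts ρ ω y (app c0 c1 c2 c3) := by
  have hz : y (vV ρ ω z0) = vV ρ ω z0 := by rw [vV_z0, map_one]
  intro x
  have hb : ∀ (b : Bool) (e c : Mk), y (vV ρ ω e) = vV ρ ω c → y (vV ρ ω (bif b then e else z0)) = vV ρ ω (bif b then c else z0) := by
    intro b e c hec
    cases b
    · exact hz
    · exact hec
  rw [app, vV_xa h, vV_xa h, vV_xa h, ← hb _ _ _ h0, ← hb _ _ _ h1, ← hb _ _ _ h2, ← hb _ _ _ h3, ← map_mul, ← map_mul,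
    ← map_mul, ← vV_xa h, ← vV_xa h, ← vV_xa h, ← decomp]

/-- commutes with `u₁`, inverted by `u₂` -/
def EE (ρ ω : K) (y : MulAut (PV K)) : Prop := y * au ρ = au ρ * y ∧ y * au (ρ * ω) * y = au (ρ * ω)

/-- commutes with `u₂`, inverted by `u₁` -/
def FF (ρ ω : K) (z : MulAut (PV K)) : Prop := z * au (ρ * ω) = au (ρ * ω) * z ∧ z * au ρ * z = au ρ

section
variable {ρ ω : K}

theorem acts_u1 (h : Four K) (hρ : ρ ^ 3 = 1) (hω : ω ^ 2 + ω + 1 = 0) : Acts ρ ω (au ρ) s1 := au_s1 h hρ hω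

theorem acts_u2 (h : Four K) (hρ : ρ ^ 3 = 1) (hω : ω ^ 2 + ω + 1 = 0) : Acts ρ ω (au (ρ * ω)) s2 := au_s2 h hρ hω

theorem EE_acts (h : Four K) (hρ : ρ ^ 3 = 1) (hω : ω ^ 2 + ω + 1 = 0) {y : MulAut (PV K)} (hy : EE ρ ω y)
    (hy9 : y ^ 9 = 1) : y = 1 ∨ ∃ a ∈ lY, Acts ρ ω y (ap1 a.1 a.2) := by
  obtain ⟨m, hm⟩ := vV_surj h hρ hω (y (vV ρ ω e0))
  obtain ⟨p, hp⟩ := vV_surj h hρ hω (y (vV ρ ω e2))
  have hc : ∀ x c, y (vV ρ ω x) = vV ρ ω c → y (vV ρ ω (s1 x)) = vV ρ ω (s1 c) := by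
    intro x c hx
    rw [← au_s1 h hρ hω, ← MulAut.mul_apply, hy.1, MulAut.mul_apply, hx, au_s1 h hρ hω]
  have hA : Acts ρ ω y (ap1 m p) := by
    intro x
    exact acts_app h hm.symm (hc e0 m hm.symm) hp.symm (hc e2 p hp.symm) x
  have hI : ∀ x, ap1 m p (s2 (ap1 m p x)) = s2 x := by
    have h1 := (hA.mul (acts_u2 h hρ hω)).mul hA
    rw [hy.2] at h1
    exact fun x => h1.eq_of h hρ hω (acts_u2 h hρ hω) x
  have hpow : ∀ k : ℕ, Acts ρ ω (y ^ k) ((ap1 m p)^[k]) := by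
    intro k
    induction k with
    | zero => intro x; rfl
    | succ k ih =>
      intro x
      rw [pow_succ, MulAut.mul_apply, hA, ih, Function.iterate_succ_apply]
  have h9 : ∀ x, (ap1 m p)^[9] x = x := by
    intro x
    have h1 := hpow 9
    rw [hy9] at h1
    exact h1.eq_of h hρ hω Acts.one x
  rcases finY m p ⟨hI e0, hI e2⟩ ⟨h9 e0, h9 e2⟩ with h1 | h1
  · left
    rw [Prod.mk.injEq] at h1
    rw [h1.1, h1.2] at hA
    exact hA.ext h hρ hω Acts.one ap1_id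
  · exact Or.inr ⟨(m, p), h1, hA⟩

theorem FF_acts (h : Four K) (hρ : ρ ^ 3 = 1) (hω : ω ^ 2 + ω + 1 = 0) {y : MulAut (PV K)} (hy : FF ρ ω y)
    (hy9 : y ^ 9 = 1) : y = 1 ∨ ∃ a ∈ lW, Acts ρ ω y (ap2 a.1 a.2) := by
  obtain ⟨m, hm⟩ := vV_surj h hρ hω (y (vV ρ ω e0))
  obtain ⟨p, hp⟩ := vV_surj h hρ hω (y (vV ρ ω e1))
  have hc : ∀ x c, y (vV ρ ω x) = vV ρ ω c → y (vV ρ ω (s2 x)) = vV ρ ω (s2 c) := by
    intro x c hx
    rw [← au_s2 h hρ hω, ← MulAut.mul_apply, hy.1, MulAut.mul_apply, hx, au_s2 h hρ hω]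
  have hA : Acts ρ ω y (ap2 m p) := by
    intro x
    exact acts_app h hm.symm hp.symm (hc e0 m hm.symm) (hc e1 p hp.symm) x
  have hI : ∀ x, ap2 m p (s1 (ap2 m p x)) = s1 x := by
    have h1 := (hA.mul (acts_u1 h hρ hω)).mul hA
    rw [hy.2] at h1
    exact fun x => h1.eq_of h hρ hω (acts_u1 h hρ hω) x
  have hpow : ∀ k : ℕ, Acts ρ ω (y ^ k) ((ap2 m p)^[k]) := by
    intro k
    induction k with
    | zero => intro x; rfl
    | succ k ih =>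
      intro x
      rw [pow_succ, MulAut.mul_apply, hA, ih, Function.iterate_succ_apply]
  have h9 : ∀ x, (ap2 m p)^[9] x = x := by
    intro x
    have h1 := hpow 9
    rw [hy9] at h1
    exact h1.eq_of h hρ hω Acts.one x
  rcases finW m p ⟨hI e0, hI e1⟩ ⟨h9 e0, h9 e1⟩ with h1 | h1
  · left
    rw [Prod.mk.injEq] at h1
    rw [h1.1, h1.2] at hA
    exact hA.ext h hρ hω Acts.one ap2_id
  · exact Or.inr ⟨(m, p), h1, hA⟩

theorem EE_small (h : Four K) (hρ : ρ ^ 3 = 1) (hω : ω ^ 2 + ω + 1 = 0) {y y' : MulAut (PV K)} (hy : EE ρ ω y)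
    (hy9 : y ^ 9 = 1) (hy' : EE ρ ω y') (hy9' : y' ^ 9 = 1) (hc : y * y' = y' * y) (h1 : y ≠ 1) :
    y' = 1 ∨ y' = y ∨ y' = y ^ 2 := by
  obtain ⟨a, ha, hA⟩ := (EE_acts h hρ hω hy hy9).resolve_left h1
  rcases EE_acts h hρ hω hy' hy9' with h2 | ⟨b, hb, hB⟩
  · exact Or.inl h2
  right
  have hAB := hA.mul hB
  rw [hc] at hAB
  rcases finYY' a ha b hb (fun x => hAB.eq_of h hρ hω (hB.mul hA) x) with h3 | h3
  · exact Or.inl (hB.ext h hρ hω hA h3)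
  · right
    rw [sq]
    exact hB.ext h hρ hω (hA.mul hA) h3

/-- (F1) an element of odd order commuting with `U` is trivial -/
theorem F1 (h : Four K) (hρ : ρ ^ 3 = 1) (hω : ω ^ 2 + ω + 1 = 0) {y : MulAut (PV K)} (h1 : y * au ρ = au ρ * y)
    (h2 : y * au (ρ * ω) = au (ρ * ω) * y) (hy9 : y ^ 9 = 1) : y = 1 := by
  obtain ⟨m, hm⟩ := vV_surj h hρ hω (y (vV ρ ω e0))
  have hc1 : ∀ x c, y (vV ρ ω x) = vV ρ ω c → y (vV ρ ω (s1 x)) = vV ρ ω (s1 c) := by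
    intro x c hx
    rw [← au_s1 h hρ hω, ← MulAut.mul_apply, h1, MulAut.mul_apply, hx, au_s1 h hρ hω]
  have hc2 : ∀ x c, y (vV ρ ω x) = vV ρ ω c → y (vV ρ ω (s2 x)) = vV ρ ω (s2 c) := by
    intro x c hx
    rw [← au_s2 h hρ hω, ← MulAut.mul_apply, h2, MulAut.mul_apply, hx, au_s2 h hρ hω]
  have hA : Acts ρ ω y (app m (s1 m) (s2 m) (s2 (s1 m))) := by
    intro x
    exact acts_app h hm.symm (hc1 e0 m hm.symm) (hc2 e0 m hm.symm) (hc2 _ _ (hc1 e0 m hm.symm)) x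
  have hAA := hA.mul hA
  have h0 : (y * y) (vV ρ ω e0) = vV ρ ω e0 := by
    have h3 : (y * y) (vV ρ ω e0) = vV ρ ω (app m (s1 m) (s2 m) (s2 (s1 m)) m) := by
      rw [MulAut.mul_apply, ← hm, hA]
    rcases finU m with h4 | h4
    · rw [h3, h4]
    · exfalso
      rw [h4, vV_z0] at h3
      have h5 : vV ρ ω e0 = 1 := (map_eq_one_iff _ (MulEquiv.injective (y * y))).1 h3
      have h6 := vV_ker h hρ hω h5
      exact absurd h6 (by decide)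
  have hc1' : ∀ x, (y * y) (vV ρ ω x) = vV ρ ω x → (y * y) (vV ρ ω (s1 x)) = vV ρ ω (s1 x) := by
    intro x hx
    have h3 : y * y * au ρ = au ρ * (y * y) := by rw [mul_assoc, h1, ← mul_assoc, h1, mul_assoc]
    rw [← au_s1 h hρ hω, ← MulAut.mul_apply, h3, MulAut.mul_apply, hx]
  have hc2' : ∀ x, (y * y) (vV ρ ω x) = vV ρ ω x → (y * y) (vV ρ ω (s2 x)) = vV ρ ω (s2 x) := by
    intro x hx
    have h3 : y * y * au (ρ * ω) = au (ρ * ω) * (y * y) := by rw [mul_assoc, h2, ← mul_assoc, h2, mul_assoc]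
    rw [← au_s2 h hρ hω, ← MulAut.mul_apply, h3, MulAut.mul_apply, hx]
  have hB : Acts ρ ω (y * y) (app e0 e1 e2 e3) :=
    acts_app h h0 (hc1' e0 h0) (hc2' e0 h0) (hc2' _ (hc1' e0 h0))
  have h2 : y * y = 1 := hB.ext h hρ hω Acts.one (by decide +kernel)
  calc y = (y * y) ^ 4 * y := by rw [h2, one_pow, one_mul]
    _ = y ^ 9 := by rw [← sq, ← pow_mul, ← pow_succ]
    _ = 1 := hy9

end

end Cfsg.Agent.H568.P4
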